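import Groth.Agent.Lib.QuietLib.FrobTower
import Mathlib.Algebra.Category.Ring.Constructions
import Mathlib.RingTheory.TensorProduct.MvPolynomial
import Mathlib.AlgebraicGeometry.Morphisms.Smooth
import Mathlib.RingTheory.RingHom.StandardSmooth

/-!
# The relative Frobenius of a smooth morphism extracts `p`-th roots
-/

set_option autoImplicit false

universe u

open CategoryTheory CategoryTheory.Limits AlgebraicGeometry

namespace Groth.Agent.Lib.QuietLib.RelFrob

variable (p : ℕ)

section Map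

attribute [local instance] MvPolynomial.algebraMvPolynomial

theorem mv_isPushout {R S : Type u} [CommRing R] [CommRing S] (φ : R →+* S) (n : ℕ) :
    IsPushout (CommRingCat.ofHom φ) (CommRingCat.ofHom (MvPolynomial.C : R →+* MvPolynomial (Fin n) R))
      (CommRingCat.ofHom (MvPolynomial.C : S →+* MvPolynomial (Fin n) S))
      (CommRingCat.ofHom (MvPolynomial.map φ : MvPolynomial (Fin n) R →+* MvPolynomial (Fin n) S)) := by
  letI := φ.toAlgebra
  exact CommRingCat.isPushout_iff_isPushout.mpr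
    (inferInstance : Algebra.IsPushout R S (MvPolynomial (Fin n) R) (MvPolynomial (Fin n) S))

end Map

theorem isPthRoot_of_local {X Y : Scheme.{u}} (f : Y ⟶ X)
    (h : ∀ x : X, ∃ (W W' : Scheme.{u}) (v : W ⟶ X) (_ : IsOpenImmersion v) (v' : W' ⟶ Y) (f' : W' ⟶ W) (w : W),
      v w = x ∧ IsPullback v' f' f v ∧ Quiet.IsPthRoot p f') : Quiet.IsPthRoot p f := by
  rw [Pth.isPthRoot_iff]
  intro x
  obtain ⟨W, W', v, hv, v', f', w, hw, hsq, hf'⟩ := h x
  haveI := hv
  obtain ⟨U₀, hwU, hgood⟩ := (Pth.isPthRoot_iff p f').mp hf' w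
  let U : X.Opens := v ''ᵁ U₀
  have hU : IsAffineOpen U := hgood.1.image_of_isOpenImmersion v
  haveI : IsAffine (U : Scheme.{u}) := hU
  let g : (U : Scheme.{u}) ⟶ W := (v.isoImage U₀).inv ≫ U₀.ι
  have hg : g ≫ v = U.ι := by rw [Category.assoc]; exact Scheme.Hom.isoImage_inv_ι v U₀
  have hH : IsPullback (hsq.lift (f ⁻¹ᵁ U).ι ((f ∣_ U) ≫ g) (by rw [Category.assoc, hg, morphismRestrict_ι]))
      (f ∣_ U) f' g := by
    refine IsPullback.of_right ?_ (hsq.lift_snd _ _ _) hsq
    rw [hsq.lift_fst, hg]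
    exact (isPullback_morphismRestrict f U).flip
  have hle : (⊤ : (U : Scheme.{u}).Opens) ≤ g ⁻¹ᵁ U₀ := fun y _ => ((v.isoImage U₀).inv y).2
  obtain ⟨-, h2, h3⟩ := Pth.good_of_isPullback p hH hgood (isAffineOpen_top _) hle
  refine ⟨U, ⟨w, hwU, hw⟩, hU, ?_, ?_⟩
  · show IsAffine ((f ⁻¹ᵁ U : Y.Opens) : Scheme.{u})
    haveI : IsAffine ((⊤ : ((f ⁻¹ᵁ U : Y.Opens) : Scheme.{u}).Opens) : Scheme.{u}) := h2
    exact IsAffine.of_isIso (Scheme.topIso _).inv
  · exact (Pth.towerHom_restrict p (f ∣_ U) ⊤).mp h3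

theorem isPthRoot_SpecMap {A B : CommRingCat.{u}} (φ : A ⟶ B) (h : Pth.TowerHom p φ.hom) :
    Quiet.IsPthRoot p (Spec.map φ) := by
  intro x
  refine ⟨⟨⊤, isAffineOpen_top _⟩, trivial, isAffineOpen_top (Spec B), ?_⟩
  haveI := RingHom.toMorphismProperty_respectsIso_iff.mp (Pth.respectsIso p)
  exact ((RingHom.toMorphismProperty (fun φ => Pth.TowerHom p φ)).arrow_mk_iso_iff
    (f := (Spec.map φ).appTop) (g := φ)
    (Arrow.isoMk (Scheme.ΓSpecIso A) (Scheme.ΓSpecIso B) (Scheme.ΓSpecIso_naturality φ).symm)).mpr h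

variable [Fact p.Prime]

theorem frob_Spec (R : CommRingCat.{u}) [FrobSch.IsCharP (Spec R) p] (h : (p : R) = 0) :
    FrobSch.frob (Spec R) p = Spec.map (CommRingCat.ofHom (FrobSch.powHom p R h)) := by
  refine ext_to_Spec ?_
  ext x
  refine Eq.trans ?_ (ConcreteCategory.congr_hom
    (Scheme.ΓSpecIso_inv_naturality (CommRingCat.ofHom (FrobSch.powHom p R h))) x)
  show ((Scheme.ΓSpecIso R).inv.hom x) ^ p = (Scheme.ΓSpecIso R).inv.hom (x ^ p)
  rw [map_pow]

/-- Relative Frobenius commutes with étale localisation on source and base. -/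
theorem isPullback_relFrob {U X S' S : Scheme.{u}} [FrobSch.IsCharP S p] [FrobSch.IsCharP S' p]
    {f : X ⟶ S} {h : U ⟶ S'} {u : U ⟶ X} [Etale u] {s : S' ⟶ S} [Etale s] (w : u ≫ f = h ≫ s) :
    ∃ u' : FrobSch.frobTwist h p ⟶ FrobSch.frobTwist f p,
      u' ≫ pullback.fst f _ = pullback.fst h _ ≫ u ∧
      IsPullback u (FrobSch.relFrob h p) (FrobSch.relFrob f p) u' ∧
      IsPullback u' (pullback.fst h _) (pullback.fst f _) u := by
  haveI : FrobSch.IsCharP X p := FrobSch.IsCharP.of_hom f p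
  haveI : FrobSch.IsCharP U p := FrobSch.IsCharP.of_hom h p
  have hF : ∀ {A B : Scheme.{u}} [FrobSch.IsCharP A p] [FrobSch.IsCharP B p] (e : A ⟶ B) [Etale e],
      IsPullback (FrobSch.frob A p) e e (FrobSch.frob B p) := fun e _ => by
    simpa [TwistContract.Basic.FN_succ, TwistContract.Basic.FN_zero] using Pth.isPullback_FN p e 1
  let u' : FrobSch.frobTwist h p ⟶ FrobSch.frobTwist f p :=
    pullback.lift (pullback.fst h _ ≫ u) (pullback.snd h _ ≫ s) (by
      rw [Category.assoc, w, pullback.condition_assoc, Category.assoc, FrobSch.frob_comp])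
  have h1 : u' ≫ pullback.fst f _ = pullback.fst h _ ≫ u := pullback.lift_fst _ _ _
  have h2 : u' ≫ pullback.snd f _ = pullback.snd h _ ≫ s := pullback.lift_snd _ _ _
  have hR : IsPullback u' (pullback.fst h _) (pullback.fst f _) u := by
    refine IsPullback.of_right ?_ h1 (IsPullback.of_hasPullback f (FrobSch.frob S p)).flip
    rw [h2, w]
    exact (IsPullback.of_hasPullback h (FrobSch.frob S' p)).flip.paste_horiz (hF s).flip
  refine ⟨u', h1, IsPullback.of_bot ?_ ?_ hR, hR⟩
  · rw [FrobSch.relFrob_fst, FrobSch.relFrob_fst]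
    exact (hF u).flip
  · refine pullback.hom_ext ?_ ?_
    · rw [Category.assoc, Category.assoc, h1, FrobSch.relFrob_fst, FrobSch.relFrob_fst_assoc, FrobSch.frob_comp]
    · rw [Category.assoc, Category.assoc, h2, FrobSch.relFrob_snd, FrobSch.relFrob_snd_assoc, w]

theorem isPthRoot_relFrob_affine (R : CommRingCat.{u}) [FrobSch.IsCharP (Spec R) p] (h0 : (p : R) = 0) (n : ℕ) :
    Quiet.IsPthRoot p
      (FrobSch.relFrob (Spec.map (CommRingCat.ofHom (MvPolynomial.C : R →+* MvPolynomial (Fin n) R))) p) := by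
  let M := MvPolynomial (Fin n) R
  let hX : Spec (CommRingCat.of M) ⟶ Spec R := Spec.map (CommRingCat.ofHom (MvPolynomial.C : R →+* M))
  haveI : FrobSch.IsCharP (Spec (CommRingCat.of M)) p := FrobSch.IsCharP.of_hom hX p
  have hM : (p : M) = 0 := by
    rw [← map_natCast (MvPolynomial.C : R →+* M), h0, map_zero]
  have hQ : IsPullback (Spec.map (CommRingCat.ofHom (MvPolynomial.map (FrobSch.powHom p R h0) : M →+* M))) hX hX
      (FrobSch.frob (Spec R) p) := by
    rw [frob_Spec p R h0]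
    exact (isPullback_SpecMap_of_isPushout _ _ _ _ (mv_isPushout (FrobSch.powHom p R h0) n)).flip
  have hr : FrobSch.relFrob hX p =
      Spec.map (CommRingCat.ofHom (MvPolynomial.expand (σ := Fin n) (R := R) p).toRingHom) ≫ hQ.isoPullback.hom := by
    refine pullback.hom_ext ?_ ?_
    · rw [FrobSch.relFrob_fst, Category.assoc, IsPullback.isoPullback_hom_fst, ← Spec.map_comp,
        frob_Spec p (CommRingCat.of M) hM]
      congr 1
      refine CommRingCat.hom_ext (MvPolynomial.ringHom_ext (fun a => ?_) fun i => ?_)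
      · show (MvPolynomial.C a) ^ p = MvPolynomial.expand p (MvPolynomial.map _ (MvPolynomial.C a))
        rw [MvPolynomial.map_C, MvPolynomial.expand_C, ← map_pow]
        rfl
      · show (MvPolynomial.X i) ^ p = MvPolynomial.expand p (MvPolynomial.map _ (MvPolynomial.X i))
        rw [MvPolynomial.map_X, MvPolynomial.expand_X]
    · rw [FrobSch.relFrob_snd, Category.assoc, IsPullback.isoPullback_hom_snd]
      simp only [hX]
      rw [← Spec.map_comp]
      refine congrArg Spec.map ?_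
      exact CommRingCat.hom_ext (RingHom.ext fun a => (MvPolynomial.expand_C p a).symm)
  rw [hr]
  exact Pth.isPthRoot_comp p (Pth.isPthRoot_of_isIso p hQ.isoPullback.hom)
    (isPthRoot_SpecMap p _ (FrobTower.towerHom_expand p n R))

theorem isPthRoot_relFrob {X S : Scheme.{u}} [FrobSch.IsCharP S p] (f : X ⟶ S) [Smooth f] :
    Quiet.IsPthRoot p (FrobSch.relFrob f p) := by
  haveI : FrobSch.IsCharP X p := FrobSch.IsCharP.of_hom f p
  refine isPthRoot_of_local p _ fun z => ?_
  obtain ⟨S₀, hS₀, U, hU, hxU, e, hsm⟩ := Smooth.exists_isStandardSmooth f (pullback.fst f (FrobSch.frob S p) z)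
  obtain ⟨n, φ, hφ, hφe⟩ := hsm.exists_etale_mvPolynomial
  let R := Γ(S, S₀)
  haveI : FrobSch.IsCharP (Spec R) p := FrobSch.IsCharP.of_hom hS₀.fromSpec p
  have h0 : (p : R) = 0 := FrobSch.natCast_eq_zero_app S p S₀
  let hX : Spec (CommRingCat.of (MvPolynomial (Fin n) R)) ⟶ Spec R :=
    Spec.map (CommRingCat.ofHom (MvPolynomial.C : R →+* MvPolynomial (Fin n) R))
  let g : Spec Γ(X, U) ⟶ Spec (CommRingCat.of (MvPolynomial (Fin n) R)) := Spec.map (CommRingCat.ofHom φ)
  let h : Spec Γ(X, U) ⟶ Spec R := Spec.map (f.appLE S₀ U e)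
  haveI : Etale g := HasRingHomProperty.Spec_iff.mpr hφe
  have hgh : g ≫ hX = h ≫ 𝟙 _ := by
    rw [Category.comp_id, ← Spec.map_comp]
    congr 1
    exact CommRingCat.hom_ext hφ
  haveI : Etale hS₀.fromSpec := inferInstance
  haveI : Etale hU.fromSpec := inferInstance
  have hw : hU.fromSpec ≫ f = h ≫ hS₀.fromSpec := (IsAffineOpen.SpecMap_appLE_fromSpec f hS₀ hU e).symm
  obtain ⟨g', -, hg', -⟩ := isPullback_relFrob p hgh
  obtain ⟨u', -, hu', hu''⟩ := isPullback_relFrob p hw
  haveI : IsOpenImmersion u' := MorphismProperty.of_isPullback (P := @IsOpenImmersion) hu''.flip inferInstance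
  obtain ⟨y, hy⟩ : ∃ y, hU.fromSpec y = pullback.fst f (FrobSch.frob S p) z := by
    rw [← Set.mem_range, hU.range_fromSpec]
    exact hxU
  obtain ⟨w, hw1, -⟩ := Scheme.exists_preimage_of_isPullback hu'' z y hy.symm
  exact ⟨_, _, u', inferInstance, hU.fromSpec, FrobSch.relFrob h p, w, hw1, hu',
    Pth.isPthRoot_of_isPullback p hg' (isPthRoot_relFrob_affine p R h0 n)⟩

end Groth.Agent.Lib.QuietLib.RelFrob
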