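import Groth.Agent.Lib.QuietLib.RelFrob
import Mathlib.AlgebraicGeometry.Morphisms.Flat
import Mathlib.RingTheory.Regular.Flat
import Mathlib.RingTheory.RingHom.FaithfullyFlat
import Mathlib.RingTheory.Smooth.Basic

/-!
The absolute Frobenius of a smooth algebra over a perfect field is an extraction of `p`-th roots,
hence faithfully flat; consequences for quotients and regular sequences.
-/

set_option autoImplicit false

universe u

namespace Groth.Agent.Lib.QuietLib.FrobSmooth

open CategoryTheory CategoryTheory.Limits AlgebraicGeometry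

variable (p : ℕ) [Fact p.Prime]

theorem faithfullyFlat_of_isPthRoot {A B : CommRingCat.{u}} (φ : A ⟶ B)
    (h : Quiet.IsPthRoot p (Spec.map φ)) : φ.hom.FaithfullyFlat := by
  have hp : p ≠ 0 := (Fact.out : p.Prime).ne_zero
  haveI : NeZero p := ⟨hp⟩
  rw [Pth.isPthRoot_iff] at h
  choose U hxU hgood using h
  have hflat : Flat (Spec.map φ) := by
    have hloc : IsZariskiLocalAtTarget @Flat.{u} :=
      HasRingHomProperty.instIsZariskiLocalAtTarget @Flat.{u}
    refine @IsZariskiLocalAtTarget.of_iSup_eq_top _ hloc _ _ _ _ U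
      (top_le_iff.mp fun x _ => TopologicalSpace.Opens.mem_iSup.mpr ⟨x, hxU x⟩) fun x => ?_
    obtain ⟨hUa, hfUa, n, hn⟩ := hgood x
    haveI : IsAffine (U x : Scheme.{u}) := hUa
    haveI : IsAffine ((Spec.map φ ⁻¹ᵁ U x : (Spec B).Opens) : Scheme.{u}) := hfUa
    letI := (Spec.map φ ∣_ U x).appTop.hom.toAlgebra
    rw [HasRingHomProperty.iff_of_isAffine (P := @Flat)]
    haveI := (Tower.free_finite hp n hn).1
    exact RingHom.flat_algebraMap_iff.mpr inferInstance
  rw [RingHom.FaithfullyFlat.iff_flat_and_comap_surjective]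
  refine ⟨(HasRingHomProperty.Spec_iff (P := @Flat)).mp hflat, fun x => ?_⟩
  obtain ⟨y, hy⟩ := Pth.surjective_of_good p (hgood x) (hxU x)
  exact ⟨y, hy⟩

theorem isPthRoot_frobenius (k : Type u) [Field k] [CharP k p] [PerfectRing k p]
    (R : Type u) [CommRing R] [Algebra k R] [CharP R p] [Algebra.Smooth k R] :
    Quiet.IsPthRoot p (Spec.map (CommRingCat.ofHom (frobenius R p))) := by
  haveI : FrobSch.IsCharP (Spec (CommRingCat.of k)) p :=
    FrobSch.isCharP_Spec k p
  let f : Spec (CommRingCat.of R) ⟶ Spec (CommRingCat.of k) :=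
    Spec.map (CommRingCat.ofHom (algebraMap k R))
  haveI : Smooth f := HasRingHomProperty.Spec_iff.mpr (RingHom.smooth_algebraMap.mpr inferInstance)
  haveI : FrobSch.IsCharP (Spec (CommRingCat.of R)) p := FrobSch.IsCharP.of_hom f p
  have h0 : (p : k) = 0 := CharP.cast_eq_zero k p
  haveI : IsIso (CommRingCat.ofHom (FrobSch.powHom p (CommRingCat.of k) h0)) := by
    rw [ConcreteCategory.isIso_iff_bijective]
    exact bijective_frobenius k p
  haveI : IsIso (FrobSch.frob (Spec (CommRingCat.of k)) p) := by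
    rw [RelFrob.frob_Spec p (CommRingCat.of k) h0]
    infer_instance
  have h := Pth.isPthRoot_comp p (Pth.isPthRoot_of_isIso p (pullback.fst f (FrobSch.frob _ p)))
    (RelFrob.isPthRoot_relFrob p f)
  rw [FrobSch.relFrob_fst, RelFrob.frob_Spec p (CommRingCat.of R) (CharP.cast_eq_zero R p)] at h
  exact h

theorem faithfullyFlat_frobenius (k : Type u) [Field k] [CharP k p] [PerfectRing k p]
    (R : Type u) [CommRing R] [Algebra k R] [CharP R p] [Algebra.Smooth k R] :
    (frobenius R p).FaithfullyFlat :=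
  faithfullyFlat_of_isPthRoot p _ (isPthRoot_frobenius p k R)

theorem isPushout_quotientMap {R S : Type u} [CommRing R] [CommRing S] (φ : R →+* S) (I : Ideal R) :
    IsPushout (CommRingCat.ofHom φ) (CommRingCat.ofHom (Ideal.Quotient.mk I))
      (CommRingCat.ofHom (Ideal.Quotient.mk (I.map φ)))
      (CommRingCat.ofHom (Ideal.quotientMap (I.map φ) φ Ideal.le_comap_map)) := by
  have hw : CommRingCat.ofHom φ ≫ CommRingCat.ofHom (Ideal.Quotient.mk (I.map φ)) =
      CommRingCat.ofHom (Ideal.Quotient.mk I) ≫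
        CommRingCat.ofHom (Ideal.quotientMap (I.map φ) φ Ideal.le_comap_map) :=
    CommRingCat.hom_ext (RingHom.ext fun x => rfl)
  refine IsPushout.of_isColimit' ⟨hw⟩ (PushoutCocone.IsColimit.mk hw
    (fun s => CommRingCat.ofHom (Ideal.Quotient.lift (I.map φ) s.inl.hom fun a ha => ?_))
    (fun s => CommRingCat.hom_ext (RingHom.ext fun x => rfl))
    (fun s => CommRingCat.hom_ext (Ideal.Quotient.ringHom_ext (RingHom.ext fun x => ?_)))
    (fun s m h₁ _ => CommRingCat.hom_ext (Ideal.Quotient.ringHom_ext (RingHom.ext fun x => ?_))))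
  · have hle : I.map φ ≤ RingHom.ker s.inl.hom := Ideal.map_le_iff_le_comap.mpr fun x hx => by
      have h := RingHom.congr_fun (congrArg CommRingCat.Hom.hom s.condition) x
      simp only [Ideal.mem_comap, RingHom.mem_ker]
      change s.inl.hom (φ x) = s.inr.hom (Ideal.Quotient.mk I x) at h
      rw [h, Ideal.Quotient.eq_zero_iff_mem.mpr hx, map_zero]
    exact hle ha
  · exact RingHom.congr_fun (congrArg CommRingCat.Hom.hom s.condition) x
  · exact RingHom.congr_fun (congrArg CommRingCat.Hom.hom h₁) x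

theorem isPthRoot_quotientMap (k : Type u) [Field k] [CharP k p] [PerfectRing k p]
    (R : Type u) [CommRing R] [Algebra k R] [CharP R p] [Algebra.Smooth k R] (I : Ideal R) :
    (Ideal.quotientMap (I.map (frobenius R p)) (frobenius R p) Ideal.le_comap_map).FaithfullyFlat ∧
    Quiet.IsPthRoot p (Spec.map (CommRingCat.ofHom
      (Ideal.quotientMap (I.map (frobenius R p)) (frobenius R p) Ideal.le_comap_map))) := by
  have h := Pth.isPthRoot_of_isPullback p
    (isPullback_SpecMap_of_isPushout _ _ _ _ (isPushout_quotientMap (frobenius R p) I))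
    (isPthRoot_frobenius p k R)
  exact ⟨faithfullyFlat_of_isPthRoot p _ h, h⟩

omit [Fact p.Prime] in
theorem ofList_ofFn {R : Type u} [CommRing R] {n : ℕ} (f : Fin n → R) :
    Ideal.ofList (List.ofFn f) = Ideal.span (Set.range f) := by
  rw [Ideal.ofList]
  congr 1
  ext x
  simp [List.mem_ofFn]

theorem isWeaklyRegular_map_of_flat {R S : Type u} [CommRing R] [CommRing S] {φ : R →+* S}
    (hφ : φ.Flat) {L : List R} (hL : RingTheory.Sequence.IsWeaklyRegular R L) :
    RingTheory.Sequence.IsWeaklyRegular S (L.map φ) := by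
  letI := φ.toAlgebra
  haveI : Module.Flat R S := hφ
  exact hL.of_flat

theorem isRegular_frobenius_powers {R : Type u} [CommRing R] [CharP R p]
    (hF : (frobenius R p).Flat) {n m : ℕ} (a : Fin n → R) (v : Fin m → R)
    (ha : RingTheory.Sequence.IsWeaklyRegular R (List.ofFn a))
    (hv : RingTheory.Sequence.IsRegular (R ⧸ Ideal.span (Set.range fun i => a i ^ p))
      (List.ofFn fun j => Ideal.Quotient.mk (Ideal.span (Set.range fun i => a i ^ p)) (v j))) :
    RingTheory.Sequence.IsRegular R
      (List.ofFn (fun i => a i ^ p ^ 2) ++ List.ofFn (fun j => v j ^ p)) := by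
  open RingTheory.Sequence in
  have hpow : ∀ L : List R, IsWeaklyRegular R L → IsWeaklyRegular R (L.map (frobenius R p)) :=
    fun L hL => isWeaklyRegular_map_of_flat hF hL
  have h1 := hpow _ ha
  rw [List.map_ofFn] at h1
  set I := Ideal.span (Set.range fun i => a i ^ p) with hI
  have hofList : Ideal.ofList (List.ofFn (frobenius R p ∘ a)) = I := ofList_ofFn _
  have h2 : RingTheory.Sequence.IsWeaklyRegular R
      (List.ofFn (frobenius R p ∘ a) ++ List.ofFn v) := by
    rw [RingTheory.Sequence.isWeaklyRegular_append_iff]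
    refine ⟨h1, ?_⟩
    have h3 : RingTheory.Sequence.IsWeaklyRegular (R ⧸ I) (List.ofFn v) := by
      rw [← RingTheory.Sequence.isWeaklyRegular_map_algebraMap_iff (R ⧸ I) (R ⧸ I),
        List.map_ofFn]
      exact hv.toIsWeaklyRegular
    have e : (R ⧸ (Ideal.ofList (List.ofFn (frobenius R p ∘ a)) • ⊤ : Submodule R R)) ≃ₗ[R] R ⧸ I :=
      Submodule.quotEquivOfEq _ _ (by rw [hofList, smul_eq_mul, Ideal.mul_top])
    exact (e.isWeaklyRegular_congr _).mpr h3
  have h4 := hpow _ h2
  rw [List.map_append, List.map_ofFn, List.map_ofFn] at h4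
  have e1 : frobenius R p ∘ (frobenius R p ∘ a) = fun i => a i ^ p ^ 2 := by
    funext i
    simp [frobenius_def, ← pow_mul, pow_two]
  rw [e1] at h4
  refine ⟨h4, fun htop => ?_⟩
  have hne := hv.top_ne_smul
  apply hne
  rw [smul_eq_mul, Ideal.mul_top] at htop ⊢
  symm
  rw [Ideal.eq_top_iff_one]
  have h5 : (Ideal.ofList (List.ofFn (fun i => a i ^ p ^ 2) ++ List.ofFn fun j => v j ^ p)).map
      (Ideal.Quotient.mk I) ≤
      Ideal.ofList (List.ofFn fun j => Ideal.Quotient.mk I (v j)) := by
    rw [Ideal.ofList_append, ofList_ofFn, ofList_ofFn, ofList_ofFn, Ideal.map_sup, sup_le_iff,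
      Ideal.map_le_iff_le_comap, Ideal.map_le_iff_le_comap, Ideal.span_le, Ideal.span_le]
    constructor <;> rintro _ ⟨i, rfl⟩
    · rw [SetLike.mem_coe, Ideal.mem_comap]
      rw [Ideal.Quotient.eq_zero_iff_mem.mpr (by
        show a i ^ p ^ 2 ∈ I
        rw [pow_two, pow_mul]
        refine Ideal.pow_mem_of_mem _ (Ideal.subset_span ?_) p (Fact.out : p.Prime).pos
        exact ⟨i, rfl⟩)]
      exact zero_mem _
    · rw [SetLike.mem_coe, Ideal.mem_comap]
      rw [map_pow]
      refine Ideal.pow_mem_of_mem _ (Ideal.subset_span ?_) p (Fact.out : p.Prime).pos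
      exact ⟨i, rfl⟩
  rw [← htop, Ideal.map_top] at h5
  exact h5 trivial

end Groth.Agent.Lib.QuietLib.FrobSmooth
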