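import Groth.Agent.Lib.QuietLib.Pth
import Mathlib.Algebra.MvPolynomial.Expand
import Mathlib.Algebra.MvPolynomial.Equiv
import Mathlib.RingTheory.PolynomialAlgebra

/-!
# `MvPolynomial.expand` is a tower of root extractions
-/

set_option autoImplicit false

universe u

open Polynomial

namespace Groth.Agent.Lib.QuietLib.FrobTower

variable (p : ℕ)

theorem towerHom_of_bijective {R S : Type u} [CommRing R] [CommRing S] (φ : R →+* S) (h : Function.Bijective φ) :
    Pth.TowerHom p φ := by
  letI := φ.toAlgebra
  exact ⟨0, ⟨(AlgEquiv.ofBijective (Algebra.ofId R S) h).symm⟩⟩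

theorem towerHom_root {R S : Type u} [CommRing R] [CommRing S] (φ : R →+* S) (a : R)
    (e : Quiet.RootRing p R a ≃+* S) (h : ∀ r, e (AdjoinRoot.of _ r) = φ r) : Pth.TowerHom p φ := by
  letI := φ.toAlgebra
  letI alg : Algebra (Quiet.RootRing p R a) S := e.toRingHom.toAlgebra
  exact ⟨1, a, alg, IsScalarTower.of_algebraMap_eq fun r => (h r).symm,
    ⟨(AlgEquiv.ofRingEquiv (f := e) fun _ => rfl).symm⟩⟩

theorem towerHom_expand_X (A : Type u) [CommRing A] : Pth.TowerHom p (expand A p).toRingHom := by
  let e₁ : Quiet.RootRing p A[X] X →+* A[X] :=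
    AdjoinRoot.lift (expand A p).toRingHom X (by simp [eval₂_sub])
  let e₂ : A[X] →+* Quiet.RootRing p A[X] X :=
    eval₂RingHom ((AdjoinRoot.of _).comp C) (AdjoinRoot.root _)
  have h₁ : ∀ f : A[X], e₂ ((expand A p) f) = AdjoinRoot.of _ f := fun f => by
    induction f using Polynomial.induction_on' with
    | add f g hf hg => rw [map_add, map_add, map_add, hf, hg]
    | monomial k c =>
      have hr : (AdjoinRoot.root (X ^ p - C X : A[X][X])) ^ p = AdjoinRoot.of _ (X : A[X]) := by
        have h := AdjoinRoot.eval₂_root (X ^ p - C (X : A[X]) : A[X][X])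
        simpa [eval₂_sub, sub_eq_zero] using h
      rw [expand_monomial, ← C_mul_X_pow_eq_monomial, ← C_mul_X_pow_eq_monomial]
      simp only [e₂, coe_eval₂RingHom, eval₂_mul, eval₂_C, eval₂_X_pow, RingHom.comp_apply, map_mul, map_pow, eval₂_X]
      rw [mul_comm k p, pow_mul, hr]
  let e : Quiet.RootRing p A[X] X ≃+* A[X] := RingEquiv.ofRingHom e₁ e₂
    (Polynomial.ringHom_ext
      (fun a => by
        rw [RingHom.comp_apply, RingHom.id_apply]
        simp only [e₁, e₂, coe_eval₂RingHom, eval₂_C, RingHom.comp_apply, AdjoinRoot.lift_of]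
        exact expand_C p a)
      (by
        rw [RingHom.comp_apply, RingHom.id_apply]
        simp only [e₁, e₂, coe_eval₂RingHom, eval₂_X, AdjoinRoot.lift_root]))
    (AdjoinRoot.ringHom_ext
      (RingHom.ext fun f => by
        rw [RingHom.comp_apply, RingHom.comp_apply, RingHom.comp_apply, RingHom.id_apply]
        simp only [e₁, AdjoinRoot.lift_of]
        exact h₁ f)
      (by
        rw [RingHom.comp_apply, RingHom.id_apply]
        simp only [e₁, e₂, AdjoinRoot.lift_root, coe_eval₂RingHom, eval₂_X]))
  refine towerHom_root p (expand A p).toRingHom X e fun f => ?_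
  show e₁ (AdjoinRoot.of _ f) = _
  simp only [e₁, AdjoinRoot.lift_of]

section Map

attribute [local instance] Polynomial.algebra

theorem towerHom_mapRingHom {R S : Type u} [CommRing R] [CommRing S] (φ : R →+* S) (h : Pth.TowerHom p φ) :
    Pth.TowerHom p (mapRingHom φ) := by
  letI := φ.toAlgebra
  exact Pth.stableUnderBaseChange p R S R[X] S[X] h

end Map

theorem towerHom_expand [Fact p.Prime] : ∀ (n : ℕ) (A : Type u) [CommRing A],
    Pth.TowerHom p (MvPolynomial.expand (σ := Fin n) (R := A) p).toRingHom
  | 0, A, _ => by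
    refine towerHom_of_bijective p _ ?_
    have h : ∀ f : MvPolynomial (Fin 0) A, MvPolynomial.expand p f = f := fun f => by
      rw [MvPolynomial.eq_C_of_isEmpty f, MvPolynomial.expand_C]
    exact (funext h : ⇑(MvPolynomial.expand p) = id) ▸ Function.bijective_id
  | n + 1, A, _ => by
    let e := (MvPolynomial.finSuccEquiv A n).toRingEquiv
    have h := Pth.towerHom_comp p (towerHom_mapRingHom p _ (towerHom_expand n A))
      (towerHom_expand_X p (MvPolynomial (Fin n) A))
    have h' := (Pth.respectsIso p).1 _ e.symm ((Pth.respectsIso p).2 _ e h)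
    refine (congrArg (fun φ : MvPolynomial (Fin (n + 1)) A →+* _ => Pth.TowerHom p φ) ?_).mp h'
    refine MvPolynomial.ringHom_ext (fun a => ?_) (fun i => ?_)
    · apply e.injective
      simp [e, MvPolynomial.finSuccEquiv_apply]
    · apply e.injective
      refine Fin.cases ?_ (fun j => ?_) i
      · simp [e, MvPolynomial.finSuccEquiv_X_zero]
      · simp [e, MvPolynomial.finSuccEquiv_X_succ]

end Groth.Agent.Lib.QuietLib.FrobTower
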