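import Groth.Agent.Lib.QuietLib.Tower
import Mathlib.RingTheory.Etale.StandardEtale
import Mathlib.Algebra.Category.Ring.Constructions

/-!
# Lifting standard étale algebras and root towers along surjective ring maps
-/

set_option autoImplicit false

universe u

open Polynomial TensorProduct CategoryTheory

namespace Groth.Agent.Lib.QuietLib.Lift

variable {p : ℕ}

theorem exists_lift_standardEtale {A Ab : Type u} [CommRing A] [CommRing Ab] [Algebra A Ab]
    (hs : Function.Surjective (algebraMap A Ab)) (B : Type u) [CommRing B] [Algebra Ab B]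
    [h : Algebra.IsStandardEtale Ab B] :
    ∃ (A' : Type u) (_ : CommRing A') (_ : Algebra A A'), Algebra.Etale A A' ∧ Nonempty (Ab ⊗[A] A' ≃ₐ[Ab] B) := by
  obtain ⟨Pb⟩ := h.nonempty_standardEtalePresentation
  obtain ⟨f, hf, -, hfm⟩ := Polynomial.lifts_and_natDegree_eq_and_monic
    (Polynomial.lifts_iff_coeff_lifts _ |>.mpr fun n => hs (Pb.f.coeff n)) Pb.monic_f
  obtain ⟨g, hg⟩ := Polynomial.map_surjective (algebraMap A Ab) hs Pb.g
  let P : StandardEtalePair A := ⟨f, hfm, g * derivative f, g, 0, 1, by ring⟩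
  letI : Algebra A B := ((algebraMap Ab B).comp (algebraMap A Ab)).toAlgebra
  haveI : IsScalarTower A Ab B := IsScalarTower.of_algebraMap_eq fun _ => rfl
  have hxB : P.HasMap Pb.x := by
    refine ⟨?_, ?_⟩
    · show aeval Pb.x f = 0
      rw [← aeval_map_algebraMap Ab, hf]
      exact Pb.hasMap.1
    · show IsUnit (aeval Pb.x (g * derivative f))
      rw [map_mul, ← aeval_map_algebraMap Ab, hg, ← aeval_map_algebraMap Ab Pb.x (derivative f), ← derivative_map, hf]
      exact Pb.hasMap.2.mul Pb.hasMap.isUnit_derivative_f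
  have hxT : Pb.P.HasMap ((1 : Ab) ⊗ₜ[A] P.X : Ab ⊗[A] P.Ring) := by
    have h1 : ∀ q : A[X], aeval ((1 : Ab) ⊗ₜ[A] P.X : Ab ⊗[A] P.Ring) (q.map (algebraMap A Ab)) =
        Algebra.TensorProduct.includeRight (aeval P.X q) := fun q => by
      rw [aeval_map_algebraMap, ← aeval_algHom_apply]
      rfl
    refine ⟨?_, ?_⟩
    · show aeval _ Pb.f = 0
      rw [← hf, h1, show aeval P.X f = 0 from P.hasMap_X.1, map_zero]
    · show IsUnit (aeval _ Pb.g)
      rw [← hg, h1]
      refine IsUnit.map _ ?_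
      have h2 : IsUnit (aeval P.X (g * derivative f)) := P.hasMap_X.2
      rw [map_mul] at h2
      exact isUnit_of_mul_isUnit_left h2
  let fwd : Ab ⊗[A] P.Ring →ₐ[Ab] B :=
    Algebra.TensorProduct.lift (Algebra.ofId Ab B) (P.lift Pb.x hxB) fun _ _ => .all _ _
  let bwd : B →ₐ[Ab] Ab ⊗[A] P.Ring := (Pb.P.lift _ hxT).comp Pb.equivRing.toAlgHom
  have e1 : fwd.comp bwd = AlgHom.id Ab B := by
    have h3 : fwd.comp (Pb.P.lift _ hxT) = Pb.equivRing.symm.toAlgHom := by
      refine StandardEtalePair.hom_ext ?_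
      simp [fwd]
    refine AlgHom.ext fun b => ?_
    show fwd (Pb.P.lift _ hxT (Pb.equivRing b)) = b
    rw [← AlgHom.comp_apply, h3]
    exact Pb.equivRing.symm_apply_apply b
  have e2 : bwd.comp fwd = AlgHom.id Ab _ := by
    refine Algebra.TensorProduct.ext (AlgHom.ext fun x => by simp [fwd]) ?_
    refine StandardEtalePair.hom_ext ?_
    simp [fwd, bwd]
  haveI : Algebra.Etale A P.Ring := inferInstance
  exact ⟨P.Ring, inferInstance, inferInstance, inferInstance, ⟨AlgEquiv.ofAlgHom fwd bwd e1 e2⟩⟩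

theorem exists_lift_tower : ∀ (n : ℕ) {A Ab : Type u} [CommRing A] [CommRing Ab] [Algebra A Ab]
    (_ : Function.Surjective (algebraMap A Ab)) (Cb : Type u) [CommRing Cb] [Algebra Ab Cb],
    Quiet.IsRootTower p n Ab Cb →
    ∃ (C : Type u) (_ : CommRing C) (_ : Algebra A C), Quiet.IsRootTower p n A C ∧ Nonempty (Ab ⊗[A] C ≃ₐ[Ab] Cb)
  | 0, A, Ab, _, _, _, _, Cb, _, _, ⟨e⟩ =>
    ⟨A, inferInstance, inferInstance, ⟨AlgEquiv.refl⟩, ⟨(Algebra.TensorProduct.rid A Ab Ab).trans e.symm⟩⟩
  | n + 1, A, Ab, _, _, _, hs, Cb, _, _, ⟨ab, alg, hT, ht⟩ => by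
    obtain ⟨a, rfl⟩ := hs ab
    letI := alg
    letI : Algebra (Quiet.RootRing p A a) (Quiet.RootRing p Ab (algebraMap A Ab a)) :=
      (Tower.rootMap Ab a).toRingHom.toAlgebra
    haveI : IsScalarTower A (Quiet.RootRing p A a) (Quiet.RootRing p Ab (algebraMap A Ab a)) :=
      IsScalarTower.of_algebraMap_eq fun x => ((Tower.rootMap Ab a).commutes x).symm
    haveI : Algebra.IsPushout A Ab (Quiet.RootRing p A a) (Quiet.RootRing p Ab (algebraMap A Ab a)) :=
      Tower.root_isPushout Ab a fun _ => rfl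
    have hsR : Function.Surjective (algebraMap (Quiet.RootRing p A a) (Quiet.RootRing p Ab (algebraMap A Ab a))) := by
      intro r
      obtain ⟨q, rfl⟩ := AdjoinRoot.mk_surjective r
      obtain ⟨q', rfl⟩ := Polynomial.map_surjective (algebraMap A Ab) hs q
      refine ⟨AdjoinRoot.mk _ q', ?_⟩
      show Tower.rootMap Ab a (AdjoinRoot.mk _ q') = _
      simp only [Tower.rootMap, AdjoinRoot.coe_mapAlgHom]
      rw [AdjoinRoot.map, AdjoinRoot.lift_mk, ← eval₂_map, ← AdjoinRoot.aeval_eq, aeval_def]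
      rfl
    obtain ⟨C, _, algC, hC, ⟨e⟩⟩ := exists_lift_tower n hsR Cb ht
    letI algA : Algebra A C := ((algebraMap (Quiet.RootRing p A a) C).comp (algebraMap A (Quiet.RootRing p A a))).toAlgebra
    haveI : IsScalarTower A (Quiet.RootRing p A a) C := IsScalarTower.of_algebraMap_eq fun _ => rfl
    refine ⟨C, inferInstance, algA, ⟨a, algC, inferInstance, hC⟩, ⟨?_⟩⟩
    exact (Algebra.IsPushout.cancelBaseChangeAlg A Ab (Quiet.RootRing p A a) (Quiet.RootRing p Ab (algebraMap A Ab a)) C).symm.trans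
      (e.restrictScalars Ab)

/-- the right map `D → Ab ⊗ D ≅ Db` -/
noncomputable def rightMap {A Ab D Db : Type u} [CommRing A] [CommRing Ab] [Algebra A Ab] [CommRing D] [Algebra A D]
    [CommRing Db] [Algebra Ab Db] (e : Ab ⊗[A] D ≃ₐ[Ab] Db) : D →+* Db :=
  e.toRingEquiv.toRingHom.comp (Algebra.TensorProduct.includeRight : D →ₐ[A] Ab ⊗[A] D).toRingHom

theorem isPushout_of_tensor {A Ab D Db : Type u} [CommRing A] [CommRing Ab] [Algebra A Ab] [CommRing D] [Algebra A D]
    [CommRing Db] [Algebra Ab Db] (e : Ab ⊗[A] D ≃ₐ[Ab] Db) :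
    IsPushout (CommRingCat.ofHom (algebraMap A Ab)) (CommRingCat.ofHom (algebraMap A D))
      (CommRingCat.ofHom (algebraMap Ab Db)) (CommRingCat.ofHom (rightMap e)) := by
  letI : Algebra D Db := (rightMap e).toAlgebra
  letI : Algebra A Db := ((algebraMap Ab Db).comp (algebraMap A Ab)).toAlgebra
  haveI : IsScalarTower A Ab Db := IsScalarTower.of_algebraMap_eq fun _ => rfl
  haveI : IsScalarTower A D Db := IsScalarTower.of_algebraMap_eq fun a => by
    show algebraMap Ab Db (algebraMap A Ab a) = e (1 ⊗ₜ algebraMap A D a)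
    rw [← e.commutes, Algebra.algebraMap_eq_smul_one (R := A) (A := D), TensorProduct.tmul_smul,
      TensorProduct.smul_tmul', ← Algebra.algebraMap_eq_smul_one]
    rfl
  haveI : Algebra.IsPushout A Ab D Db := by
    letI : Algebra D (Ab ⊗[A] D) := Algebra.TensorProduct.rightAlgebra
    exact Algebra.IsPushout.of_equiv (h := inferInstance) e (RingHom.ext fun _ => rfl)
  exact CommRingCat.isPushout_iff_isPushout.mpr inferInstance

theorem rightMap_surjective {A Ab D Db : Type u} [CommRing A] [CommRing Ab] [Algebra A Ab] [CommRing D] [Algebra A D]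
    [CommRing Db] [Algebra Ab Db] (hs : Function.Surjective (algebraMap A Ab)) (e : Ab ⊗[A] D ≃ₐ[Ab] Db) :
    Function.Surjective (rightMap e) := by
  refine e.surjective.comp fun t => ?_
  induction t with
  | zero => exact ⟨0, map_zero _⟩
  | tmul x d =>
    obtain ⟨a, rfl⟩ := hs x
    refine ⟨a • d, ?_⟩
    show (1 : Ab) ⊗ₜ[A] (a • d) = _
    rw [TensorProduct.tmul_smul, TensorProduct.smul_tmul', ← Algebra.algebraMap_eq_smul_one]
  | add x y hx hy =>
    obtain ⟨a, ha⟩ := hx
    obtain ⟨b, hb⟩ := hy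
    exact ⟨a + b, by rw [map_add, ha, hb]⟩

end Groth.Agent.Lib.QuietLib.Lift
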