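import Groth.Agent.Lib.QuietLib.Tower
import Groth.Agent.Lib.TwistContract.Basic
import Groth.Agent.Lib.Perfection.Basic
import Mathlib.RingTheory.RingHomProperties
import Mathlib.RingTheory.RingHom.FaithfullyFlat
import Mathlib.AlgebraicGeometry.Morphisms.Affine
import Mathlib.AlgebraicGeometry.Morphisms.Etale
import Mathlib.AlgebraicGeometry.Morphisms.UniversallyInjective

/-!
# Extractions of `p`-th roots as morphisms of schemes

Base change, composition, commutation with étale morphisms.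
-/

set_option autoImplicit false

universe u

open CategoryTheory CategoryTheory.Limits AlgebraicGeometry

namespace Groth.Agent.Lib.QuietLib.Pth

variable (p : ℕ)

/-- a ring map which is a tower of `p`-th root extractions -/
def TowerHom {R S : Type u} [CommRing R] [CommRing S] (φ : R →+* S) : Prop :=
  letI := φ.toAlgebra
  ∃ n : ℕ, Quiet.IsRootTower p n R S

theorem respectsIso : RingHom.RespectsIso (fun φ => TowerHom p φ) := by
  constructor
  · intro R S T _ _ _ f e ⟨n, hn⟩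
    letI := f.toAlgebra
    letI := (e.toRingHom.comp f).toAlgebra
    exact ⟨n, Tower.congr n (RingEquiv.refl R) e (fun _ => rfl) hn⟩
  · intro R S T _ _ _ f e ⟨n, hn⟩
    letI := f.toAlgebra
    letI := (f.comp e.toRingHom).toAlgebra
    exact ⟨n, Tower.congr n e.symm (RingEquiv.refl T) (fun s => by
      show f s = f (e (e.symm s))
      rw [e.apply_symm_apply]) hn⟩

theorem towerHom_algebraMap {R S : Type u} [CommRing R] [CommRing S] [Algebra R S] :
    TowerHom p (algebraMap R S) ↔ ∃ n : ℕ, Quiet.IsRootTower p n R S := by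
  have h : (algebraMap R S).toAlgebra = (inferInstance : Algebra R S) := Algebra.algebra_ext _ _ fun _ => rfl
  unfold TowerHom
  rw [h]

theorem stableUnderBaseChange : RingHom.IsStableUnderBaseChange (fun φ => TowerHom p φ) := by
  refine RingHom.IsStableUnderBaseChange.mk (respectsIso p) ?_
  intro R S T _ _ _ _ _ h
  obtain ⟨n, hn⟩ := (towerHom_algebraMap p).mp h
  exact (towerHom_algebraMap p).mpr ⟨n, Tower.baseChange n S hn⟩

theorem towerHom_comp {R S T : Type u} [CommRing R] [CommRing S] [CommRing T] {f : R →+* S} {g : S →+* T}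
    (hf : TowerHom p f) (hg : TowerHom p g) : TowerHom p (g.comp f) := by
  obtain ⟨n, hn⟩ := hf
  obtain ⟨m, hm⟩ := hg
  letI := f.toAlgebra
  letI := g.toAlgebra
  letI := (g.comp f).toAlgebra
  haveI : IsScalarTower R S T := IsScalarTower.of_algebraMap_eq fun _ => rfl
  exact ⟨n + m, Tower.trans n m hn hm⟩

variable {X Y Z : Scheme.{u}}

/-- the restriction of `f` to `U` is affine and given by a tower -/
def Good (f : Y ⟶ X) (U : X.Opens) : Prop :=
  IsAffineOpen U ∧ IsAffineOpen (f ⁻¹ᵁ U) ∧ TowerHom p (f ∣_ U).appTop.hom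

theorem towerHom_restrict (f : Y ⟶ X) (U : X.Opens) :
    TowerHom p (f ∣_ U).appTop.hom ↔ TowerHom p (f.app U).hom :=
  haveI := RingHom.toMorphismProperty_respectsIso_iff.mp (respectsIso p)
  (RingHom.toMorphismProperty (fun φ => TowerHom p φ)).arrow_mk_iso_iff
    (f := (f ∣_ U).appTop) (g := f.app U)
    (Arrow.isoMk U.topIso (f ⁻¹ᵁ U).topIso (by
      show U.topIso.hom ≫ f.app U = (f ∣_ U).appTop ≫ (f ⁻¹ᵁ U).topIso.hom
      rw [morphismRestrict_appTop, Scheme.Opens.topIso_hom, Scheme.Opens.topIso_hom, Scheme.Hom.app_eq_appLE,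
        Scheme.Hom.app_eq_appLE]
      erw [Category.assoc, ← Functor.map_comp, Scheme.Hom.map_appLE, Scheme.Hom.appLE_map]))

theorem isPthRoot_iff (f : Y ⟶ X) : Quiet.IsPthRoot p f ↔ ∀ x : X, ∃ U : X.Opens, x ∈ U ∧ Good p f U := by
  refine ⟨fun h x => ?_, fun h x => ?_⟩
  · obtain ⟨U, hx, hU, ht⟩ := h x
    exact ⟨U.1, hx, U.2, hU, (towerHom_restrict p f U.1).mpr ht⟩
  · obtain ⟨U, hx, hU, hfU, ht⟩ := h x
    exact ⟨⟨U, hU⟩, hx, hfU, (towerHom_restrict p f U).mp ht⟩

theorem good_of_isPullback {X' Y' : Scheme.{u}} {f : Y ⟶ X} {f' : Y' ⟶ X'} {g : X' ⟶ X} {g' : Y' ⟶ Y}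
    (H : IsPullback g' f' f g) {U : X.Opens} {V : X'.Opens} (hU : Good p f U) (hV : IsAffineOpen V)
    (hVU : V ≤ g ⁻¹ᵁ U) : Good p f' V := by
  obtain ⟨hUa, hfUa, ht⟩ := hU
  haveI : IsAffine (U : Scheme.{u}) := hUa
  haveI : IsAffine ((f ⁻¹ᵁ U : Y.Opens) : Scheme.{u}) := hfUa
  haveI : IsAffine (V : Scheme.{u}) := hV
  have e : f' ⁻¹ᵁ V ≤ g' ⁻¹ᵁ (f ⁻¹ᵁ U) := fun y hy => by
    show f (g' y) ∈ U
    rw [← Scheme.Hom.comp_apply, H.w, Scheme.Hom.comp_apply]
    exact hVU hy
  have hsq : IsPullback (g'.resLE (f ⁻¹ᵁ U) (f' ⁻¹ᵁ V) e) (f' ∣_ V) (f ∣_ U) (g.resLE U V hVU) := by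
    refine IsPullback.of_right ?_ ?_ (isPullback_morphismRestrict f U).flip
    · rw [Scheme.Hom.resLE_comp_ι, Scheme.Hom.resLE_comp_ι]
      exact (isPullback_morphismRestrict f' V).flip.paste_horiz H
    · rw [← cancel_mono U.ι, Category.assoc, Category.assoc, morphismRestrict_ι, Scheme.Hom.resLE_comp_ι_assoc,
        Scheme.Hom.resLE_comp_ι, H.w, morphismRestrict_ι_assoc]
  haveI : IsAffineHom (f ∣_ U) := inferInstance
  have hY' : IsAffine ((f' ⁻¹ᵁ V : Y'.Opens) : Scheme.{u}) := IsAffine.of_isPullback hsq.flip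
  refine ⟨hV, hY', ?_⟩
  have hpo := isPushout_appTop_of_isPullback hsq
  haveI := RingHom.isStableUnderCobaseChange_toMorphismProperty_iff.mpr (stableUnderBaseChange p)
  exact MorphismProperty.of_isPushout (P := RingHom.toMorphismProperty (fun φ => TowerHom p φ)) hpo.flip ht

theorem good_mono {f : Y ⟶ X} {U U' : X.Opens} (hU : Good p f U) (hU' : IsAffineOpen U') (h : U' ≤ U) :
    Good p f U' :=
  good_of_isPullback p (IsPullback.of_horiz_isIso ⟨by simp⟩ : IsPullback (𝟙 Y) f f (𝟙 X)) hU hU' h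

theorem isPthRoot_of_isPullback {X' Y' : Scheme.{u}} {f : Y ⟶ X} {f' : Y' ⟶ X'} {g : X' ⟶ X} {g' : Y' ⟶ Y}
    (H : IsPullback g' f' f g) (hf : Quiet.IsPthRoot p f) : Quiet.IsPthRoot p f' := by
  rw [isPthRoot_iff] at hf ⊢
  intro x
  obtain ⟨U, hx, hU⟩ := hf (g x)
  obtain ⟨V, hV, hxV, hVU⟩ := exists_isAffineOpen_mem_and_subset (x := x) (U := g ⁻¹ᵁ U) hx
  exact ⟨V, hxV, good_of_isPullback p H hU hV hVU⟩

theorem isPthRoot_restrict {f : Y ⟶ X} (hf : Quiet.IsPthRoot p f) (U : X.Opens) : Quiet.IsPthRoot p (f ∣_ U) :=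
  isPthRoot_of_isPullback p (isPullback_morphismRestrict f U).flip hf

theorem isPthRoot_of_isIso (f : Y ⟶ X) [IsIso f] : Quiet.IsPthRoot p f := by
  intro x
  obtain ⟨U, hU, hxU, -⟩ := exists_isAffineOpen_mem_and_subset (x := x) (U := ⊤) trivial
  refine ⟨⟨U, hU⟩, hxU, hU.preimage f, 0, ?_⟩
  letI := (f.app U).hom.toAlgebra
  exact ⟨(AlgEquiv.ofRingEquiv (f := (asIso (f.app U)).commRingCatIsoToRingEquiv) fun _ => rfl).symm⟩

variable [Fact p.Prime]

omit [Fact p.Prime] in
theorem surjective_of_good [hp : NeZero p] {f : Y ⟶ X} {U : X.Opens} (hU : Good p f U) {x : X} (hx : x ∈ U) :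
    ∃ y, f y = x := by
  obtain ⟨hUa, hfUa, n, hn⟩ := hU
  haveI : IsAffine (U : Scheme.{u}) := hUa
  haveI : IsAffine ((f ⁻¹ᵁ U : Y.Opens) : Scheme.{u}) := hfUa
  letI := (f ∣_ U).appTop.hom.toAlgebra
  haveI := Tower.faithfullyFlat hp.out hn
  have hs : Surjective (Spec.map (f ∣_ U).appTop) := ⟨PrimeSpectrum.comap_surjective_of_faithfullyFlat⟩
  have hs' : Surjective (f ∣_ U) :=
    (MorphismProperty.arrow_mk_iso_iff @Surjective (arrowIsoSpecΓOfIsAffine (f ∣_ U))).mpr hs
  obtain ⟨y, hy⟩ := hs'.surj ⟨x, hx⟩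
  exact ⟨y.1, by
    have h := congrArg Subtype.val hy
    rw [morphismRestrict_base] at h
    exact h⟩

theorem exists_pow_app [FrobSch.IsCharP X p] {f : Y ⟶ X} {U : X.Opens} (hU : Good p f U) :
    ∃ n, ∀ b : Γ(Y, f ⁻¹ᵁ U), ∃ a : Γ(X, U), (f.app U).hom a = b ^ p ^ n := by
  obtain ⟨n, hn⟩ := (towerHom_restrict p f U).mp hU.2.2
  letI := (f.app U).hom.toAlgebra
  exact ⟨n, fun b => Tower.exists_pow_eq n (FrobSch.natCast_eq_zero_app X p U) hn b⟩

theorem isPthRoot_comp [FrobSch.IsCharP X p] {f : Y ⟶ X} {g : Z ⟶ Y} (hf : Quiet.IsPthRoot p f)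
    (hg : Quiet.IsPthRoot p g) : Quiet.IsPthRoot p (g ≫ f) := by
  haveI : NeZero p := ⟨(Fact.out : p.Prime).ne_zero⟩
  rw [isPthRoot_iff] at hf hg ⊢
  intro x
  obtain ⟨U, hxU, hU⟩ := hf x
  obtain ⟨y, rfl⟩ := surjective_of_good p hU hxU
  obtain ⟨W, hyW, hW⟩ := hg y
  obtain ⟨b, hbW, hyb⟩ := hU.2.1.exists_basicOpen_le ⟨y, hyW⟩ hxU
  obtain ⟨n, hn⟩ := exists_pow_app p hU
  obtain ⟨a, ha⟩ := hn b
  have hpre : f ⁻¹ᵁ (X.basicOpen a) = Y.basicOpen b := by
    rw [Scheme.preimage_basicOpen, ha]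
    exact Scheme.basicOpen_pow Y b (Nat.pos_of_ne_zero (pow_ne_zero _ (Fact.out : p.Prime).ne_zero))
  have hxa : f y ∈ X.basicOpen a := by
    show y ∈ f ⁻¹ᵁ (X.basicOpen a)
    rw [hpre]; exact hyb
  have h1 : Good p f (X.basicOpen a) := good_mono p hU (hU.1.basicOpen a) (X.basicOpen_le a)
  have h2 : Good p g (f ⁻¹ᵁ X.basicOpen a) := good_mono p hW h1.2.1 (hpre ▸ hbW)
  refine ⟨_, hxa, h1.1, h2.2.1, ?_⟩
  rw [morphismRestrict_comp, Scheme.Hom.comp_appTop]
  show TowerHom p ((g ∣_ f ⁻¹ᵁ X.basicOpen a).appTop.hom.comp (f ∣_ X.basicOpen a).appTop.hom)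
  exact towerHom_comp p h1.2.2 h2.2.2

/-- For étale morphisms the iterated relative Frobenius is an isomorphism. -/
theorem isPullback_FN {W V : Scheme.{u}} [FrobSch.IsCharP W p] [FrobSch.IsCharP V p] (e : W ⟶ V) [Etale e] (n : ℕ) :
    IsPullback (TwistContract.Basic.FN p W n) e e (TwistContract.Basic.FN p V n) := by
  have hw : TwistContract.Basic.FN p W n ≫ e = e ≫ TwistContract.Basic.FN p V n := TwistContract.Basic.FN_comp p e n
  have hui : ∀ (W : Scheme.{u}) [FrobSch.IsCharP W p], UniversallyInjective (TwistContract.Basic.FN p W n) := by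
    intro W _
    induction n with
    | zero => rw [TwistContract.Basic.FN_zero]; infer_instance
    | succ n ih =>
      haveI := ih (TwistContract.Basic.FN_comp p e n)
      haveI : UniversallyInjective (FrobSch.frob W p) := Perfection.Basic.universallyInjective_frob p W
      rw [TwistContract.Basic.FN_succ]
      exact MorphismProperty.comp_mem @UniversallyInjective _ _ ‹_› ‹_›
  set l := pullback.lift (TwistContract.Basic.FN p W n) e hw with hl
  haveI : Etale l := by
    haveI : Etale (l ≫ pullback.snd e (TwistContract.Basic.FN p V n)) := by rw [hl, pullback.lift_snd]; infer_instance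
    exact Etale.of_comp l (pullback.snd e (TwistContract.Basic.FN p V n))
  haveI : UniversallyInjective l := by
    refine ((tfae_universallyInjective l).out 0 1).mpr ?_
    intro K _ g₁ g₂ h
    have hW : ∀ (K : Type u) [Field K], Function.Injective
        fun f : Spec (CommRingCat.of K) ⟶ W => f ≫ TwistContract.Basic.FN p W n :=
      ((tfae_universallyInjective (TwistContract.Basic.FN p W n)).out 0 1).mp (hui W)
    refine hW K ?_
    have h' := congrArg (fun z => z ≫ pullback.fst e (TwistContract.Basic.FN p V n)) h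
    simpa [hl, pullback.lift_fst] using h'
  haveI : Surjective l := by
    haveI : UniversallyInjective (pullback.fst e (TwistContract.Basic.FN p V n)) :=
      UniversallyInjective.isStableUnderBaseChange.of_isPullback (IsPullback.of_hasPullback e (TwistContract.Basic.FN p V n)).flip (hui V)
    have hfi : Function.Injective (pullback.fst e (TwistContract.Basic.FN p V n)) := Scheme.Hom.injective _
    refine ⟨fun z => ⟨pullback.fst e (TwistContract.Basic.FN p V n) z, hfi ?_⟩⟩
    rw [← Scheme.Hom.comp_apply, hl, pullback.lift_fst, TwistContract.Basic.FN_apply]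
  haveI : IsIso (pullback.diagonal l) :=
    (isIso_iff_isOpenImmersion_and_surjective _).mpr
      ⟨inferInstance, (UniversallyInjective.iff_diagonal _).mp inferInstance⟩
  haveI : Mono l := (pullback.isIso_diagonal_iff _).mp inferInstance
  haveI : IsOpenImmersion l := IsOpenImmersion.of_flat_of_mono _
  haveI : IsIso l := (isIso_iff_isOpenImmersion_and_surjective _).mpr ⟨inferInstance, inferInstance⟩
  exact IsPullback.of_iso (IsPullback.of_hasPullback e (TwistContract.Basic.FN p V n)) (asIso l).symm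
    (Iso.refl _) (Iso.refl _) (Iso.refl _) (by simp [hl, pullback.lift_fst]) (by simp [hl, pullback.lift_snd]) (by simp) (by simp)

/-- A `p`-th root morphism followed by an étale morphism can be turned around. -/
theorem exists_swap {V Y₁ W : Scheme.{u}} [IsAffine V] [IsAffine Y₁] [FrobSch.IsCharP Y₁ p] (r : V ⟶ Y₁)
    (hr : TowerHom p r.appTop.hom) (hrr : Quiet.IsPthRoot p r) (e : W ⟶ V) [Etale e] :
    ∃ (W₁ : Scheme.{u}) (r' : W ⟶ W₁) (e' : W₁ ⟶ Y₁),
      Quiet.IsPthRoot p r' ∧ Etale e' ∧ r' ≫ e' = e ≫ r := by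
  haveI : FrobSch.IsCharP V p := FrobSch.IsCharP.of_hom r p
  haveI : FrobSch.IsCharP W p := FrobSch.IsCharP.of_hom e p
  obtain ⟨n, hn⟩ := hr
  letI := r.appTop.hom.toAlgebra
  have hp : p ≠ 0 := (Fact.out : p.Prime).ne_zero
  have h0 : (p : Γ(Y₁, ⊤)) = 0 := FrobSch.natCast_eq_zero_app Y₁ p ⊤
  have hinj : Function.Injective r.appTop.hom := Tower.injective hp hn
  choose ψ hψ using fun b : Γ(V, ⊤) => Tower.exists_pow_eq n h0 hn b
  have hψ' : ∀ b, r.appTop.hom (ψ b) = (TwistContract.Basic.FN p V n).appTop.hom b := fun b => by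
    rw [TwistContract.Basic.appTop_FN]; exact hψ b
  let ψr : Γ(V, ⊤) →+* Γ(Y₁, ⊤) :=
    { toFun := ψ
      map_one' := hinj (by rw [hψ', map_one, map_one])
      map_mul' := fun a b => hinj (by rw [map_mul, hψ', hψ', hψ', map_mul])
      map_zero' := hinj (by rw [hψ', map_zero, map_zero])
      map_add' := fun a b => hinj (by rw [map_add, hψ', hψ', hψ', map_add]) }
  let φ : Y₁ ⟶ V := Y₁.toSpecΓ ≫ Spec.map (CommRingCat.ofHom ψr) ≫ V.isoSpec.inv
  have hrφ : r ≫ φ = TwistContract.Basic.FN p V n := by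
    rw [← cancel_mono V.toSpecΓ]
    simp only [φ, Category.assoc, Scheme.isoSpec_inv_toSpecΓ, Category.comp_id]
    erw [Category.comp_id]
    rw [Scheme.toSpecΓ_naturality, Scheme.toSpecΓ_naturality_assoc, ← Spec.map_comp]
    congr 2
    ext b
    exact hψ' b
  let r' : W ⟶ pullback e φ := pullback.lift (TwistContract.Basic.FN p W n) (e ≫ r)
    (by rw [Category.assoc, hrφ, TwistContract.Basic.FN_comp])
  have hsq : IsPullback e r' r (pullback.snd e φ) := by
    refine IsPullback.flip ?_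
    refine IsPullback.of_right ?_ (by simp [r', pullback.lift_snd]) (IsPullback.of_hasPullback e φ)
    rw [hrφ]
    simp only [r', pullback.lift_fst]
    exact isPullback_FN p e n
  exact ⟨_, r', pullback.snd e φ, isPthRoot_of_isPullback p hsq hrr, inferInstance, by simp [r', pullback.lift_snd]⟩

end Groth.Agent.Lib.QuietLib.Pth
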