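import Groth.Agent.Lib.QuietLib.Pth

/-!
# Quasi-étale morphisms: base change and composition
-/

set_option autoImplicit false

universe u

open CategoryTheory CategoryTheory.Limits AlgebraicGeometry

namespace Groth.Agent.Lib.QuietLib.Quiet

variable (p : ℕ)

theorem isQuiet_of_isPullback {X Y X' Y' : Scheme.{u}} {f : Y ⟶ X} {g : X' ⟶ X} {f' : Y' ⟶ X'} {g' : Y' ⟶ Y}
    (H : IsPullback g' f' f g) (hf : _root_.Quiet.IsQuiet p f) : _root_.Quiet.IsQuiet p f' := by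
  intro y
  obtain ⟨V, Y₁, r, e, hy, hr, he, hre⟩ := hf (g' y)
  haveI := he
  have hw : ((g' ∣_ V) ≫ r) ≫ e = ((g' ⁻¹ᵁ V).ι ≫ f') ≫ g := by
    rw [Category.assoc, hre, morphismRestrict_ι_assoc, Category.assoc, H.w]
  let r' : ((g' ⁻¹ᵁ V : Y'.Opens) : Scheme.{u}) ⟶ pullback e g :=
    pullback.lift ((g' ∣_ V) ≫ r) ((g' ⁻¹ᵁ V).ι ≫ f') hw
  have hsq : IsPullback (g' ∣_ V) r' r (pullback.fst e g) := by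
    refine IsPullback.flip (IsPullback.of_right ?_ (by simp [r', pullback.lift_fst]) (IsPullback.of_hasPullback e g).flip)
    simp only [r', pullback.lift_snd, hre]
    exact (isPullback_morphismRestrict g' V).flip.paste_horiz H.flip
  exact ⟨g' ⁻¹ᵁ V, pullback e g, r', pullback.snd e g, hy, Pth.isPthRoot_of_isPullback p hsq hr, inferInstance,
    by simp [r', pullback.lift_snd]⟩

theorem isQuiet_comp [Fact p.Prime] {X Y Z : Scheme.{u}} [FrobSch.IsCharP X p] {f : Y ⟶ X} {g : Z ⟶ Y}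
    (hf : _root_.Quiet.IsQuiet p f) (hg : _root_.Quiet.IsQuiet p g) : _root_.Quiet.IsQuiet p (g ≫ f) := by
  intro z
  obtain ⟨Vg, Z', r₂, e₂, hz, hr₂, he₂, h₂⟩ := hg z
  obtain ⟨Vf, Y₁, r₁, e₁, hy, hr₁, he₁, h₁⟩ := hf (g z)
  haveI := he₁
  haveI := he₂
  obtain ⟨U, hU, hgood⟩ := (Pth.isPthRoot_iff p r₁).mp hr₁ (r₁ ⟨g z, hy⟩)
  haveI : IsAffine (U : Scheme.{u}) := hgood.1
  haveI : IsAffine ((r₁ ⁻¹ᵁ U : (Vf : Scheme.{u}).Opens) : Scheme.{u}) := hgood.2.1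
  haveI : FrobSch.IsCharP (U : Scheme.{u}) p := FrobSch.IsCharP.of_hom (U.ι ≫ e₁) p
  let Vy : Y.Opens := Vf.ι ''ᵁ (r₁ ⁻¹ᵁ U)
  let θ : (Vy : Scheme.{u}) ⟶ ((r₁ ⁻¹ᵁ U : (Vf : Scheme.{u}).Opens) : Scheme.{u}) := (Vf.ι.isoImage (r₁ ⁻¹ᵁ U)).inv
  haveI : Etale θ := inferInstance
  obtain ⟨W₁, r', e', hr', he', h'⟩ := Pth.exists_swap p (r₁ ∣_ U) hgood.2.2 (Pth.isPthRoot_restrict p hr₁ U)
    ((e₂ ∣_ Vy) ≫ θ)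
  haveI := he'
  haveI : FrobSch.IsCharP W₁ p := FrobSch.IsCharP.of_hom (e' ≫ U.ι ≫ e₁) p
  let Zo : Z.Opens := Vg.ι ''ᵁ (r₂ ⁻¹ᵁ (e₂ ⁻¹ᵁ Vy))
  let α : (Zo : Scheme.{u}) ⟶ W₁ := (Vg.ι.isoImage (r₂ ⁻¹ᵁ (e₂ ⁻¹ᵁ Vy))).inv ≫ (r₂ ∣_ (e₂ ⁻¹ᵁ Vy)) ≫ r'
  have hα : _root_.Quiet.IsPthRoot p α := by
    haveI : FrobSch.IsCharP ((e₂ ⁻¹ᵁ Vy : Z'.Opens) : Scheme.{u}) p := FrobSch.IsCharP.of_hom r' p
    haveI : FrobSch.IsCharP ((r₂ ⁻¹ᵁ (e₂ ⁻¹ᵁ Vy) : (Vg : Scheme.{u}).Opens) : Scheme.{u}) p :=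
      FrobSch.IsCharP.of_hom (r₂ ∣_ (e₂ ⁻¹ᵁ Vy)) p
    exact Pth.isPthRoot_comp p (Pth.isPthRoot_comp p hr' (Pth.isPthRoot_restrict p hr₂ _)) (Pth.isPthRoot_of_isIso p _)
  refine ⟨Zo, W₁, α, e' ≫ U.ι ≫ e₁, ?_, hα, inferInstance, ?_⟩
  · refine ⟨⟨z, hz⟩, ?_, rfl⟩
    show e₂ (r₂ ⟨z, hz⟩) ∈ Vy
    have h : ∀ w : (Vg : Scheme.{u}), e₂ (r₂ w) = g (Vg.ι w) := fun w => by
      rw [← Scheme.Hom.comp_apply, h₂, Scheme.Hom.comp_apply]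
    erw [h ⟨z, hz⟩]
    exact ⟨⟨g z, hy⟩, hU, rfl⟩
  · have hθ : θ ≫ (r₁ ⁻¹ᵁ U).ι ≫ Vf.ι = Vy.ι := Scheme.Hom.isoImage_inv_ι _ _
    calc α ≫ e' ≫ U.ι ≫ e₁
        = (Vg.ι.isoImage _).inv ≫ (r₂ ∣_ (e₂ ⁻¹ᵁ Vy)) ≫ (e₂ ∣_ Vy) ≫ θ ≫ (r₁ ⁻¹ᵁ U).ι ≫ r₁ ≫ e₁ := by
          simp only [α, Category.assoc]
          rw [reassoc_of% h', morphismRestrict_ι_assoc]
      _ = Zo.ι ≫ g ≫ f := by
          rw [h₁, reassoc_of% hθ, morphismRestrict_ι_assoc, morphismRestrict_ι_assoc, reassoc_of% h₂]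
          exact Scheme.Hom.isoImage_inv_ι_assoc _ _ _

end Groth.Agent.Lib.QuietLib.Quiet
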