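import Groth.Agent.Lib.QuietLib.Pth
import Groth.Agent.S9147
import Groth.Agent.Lib.Synt92.MorStd
import Mathlib.RingTheory.Extension.Presentation.Basic
import Mathlib.RingTheory.Smooth.StandardSmooth
import Mathlib.RingTheory.QuasiFinite.Basic
import Mathlib.AlgebraicGeometry.Morphisms.Smooth

/-!
# Quasi-étale morphisms are syntomic
-/

set_option autoImplicit false

universe u

open CategoryTheory CategoryTheory.Limits AlgebraicGeometry TensorProduct

namespace Groth.Agent.Lib.QuietLib.Syn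

variable {p : ℕ}

/-- a presentation with as many relations as generators -/
def Balanced (R S : Type u) [CommRing R] [CommRing S] [Algebra R S] : Prop :=
  ∃ m : ℕ, Nonempty (Algebra.Presentation R S (Fin m) (Fin m))

theorem balanced_congr {R S T : Type u} [CommRing R] [CommRing S] [CommRing T] [Algebra R S] [Algebra R T]
    (e : S ≃ₐ[R] T) (h : Balanced R S) : Balanced R T := by
  obtain ⟨m, ⟨P⟩⟩ := h
  exact ⟨m, ⟨P.ofAlgEquiv e⟩⟩

theorem balanced_trans {R S T : Type u} [CommRing R] [CommRing S] [CommRing T] [Algebra R S] [Algebra S T]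
    [Algebra R T] [IsScalarTower R S T] (h : Balanced R S) (h' : Balanced S T) : Balanced R T := by
  obtain ⟨m, ⟨P⟩⟩ := h
  obtain ⟨k, ⟨Q⟩⟩ := h'
  exact ⟨k + m, ⟨(Q.comp P).reindex finSumFinEquiv.symm finSumFinEquiv.symm⟩⟩

theorem balanced_root (A : Type u) [CommRing A] (a : A) : Balanced A (Quiet.RootRing p A a) := by
  let v : Fin 1 → MvPolynomial (Fin 1) A := fun _ => MvPolynomial.X 0 ^ p - MvPolynomial.C a
  have hker : ∀ f ∈ Ideal.span (Set.range v), MvPolynomial.aeval (R := A)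
      (fun _ : Fin 1 => AdjoinRoot.root (Polynomial.X ^ p - Polynomial.C a : Polynomial A)) f = 0 := by
    intro f hf
    refine (Ideal.span_le (I := RingHom.ker (MvPolynomial.aeval (R := A) fun _ : Fin 1 =>
      AdjoinRoot.root (Polynomial.X ^ p - Polynomial.C a : Polynomial A))) (α := MvPolynomial (Fin 1) A)).mpr ?_ hf
    rintro _ ⟨i, rfl⟩
    have h := AdjoinRoot.eval₂_root (Polynomial.X ^ p - Polynomial.C a : Polynomial A)
    simp only [Polynomial.eval₂_sub, Polynomial.eval₂_X_pow, Polynomial.eval₂_C] at h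
    simpa [v, RingHom.mem_ker] using h
  let e : (MvPolynomial (Fin 1) A ⧸ Ideal.span (Set.range v)) ≃ₐ[A] Quiet.RootRing p A a :=
    AlgEquiv.ofAlgHom
      (Ideal.Quotient.liftₐ _ (MvPolynomial.aeval fun _ => AdjoinRoot.root _) hker)
      (AdjoinRoot.liftAlgHom _ (Algebra.ofId A _) (Ideal.Quotient.mk _ (MvPolynomial.X 0)) (by
        simp only [Polynomial.eval₂_sub, Polynomial.eval₂_X_pow, Polynomial.eval₂_C]
        rw [← map_pow]
        exact (Ideal.Quotient.mk_eq_mk_iff_sub_mem _ _).mpr (Ideal.subset_span ⟨0, rfl⟩) |> sub_eq_zero.mpr))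
      (by
        refine AdjoinRoot.algHom_ext ?_
        rw [AlgHom.comp_apply, AlgHom.id_apply, AdjoinRoot.liftAlgHom_root]
        exact MvPolynomial.aeval_X _ _)
      (by
        refine Ideal.Quotient.algHom_ext _ (MvPolynomial.algHom_ext fun i => ?_)
        have hi : i = 0 := Subsingleton.elim _ _
        subst hi
        simp only [AlgHom.comp_apply, AlgHom.id_comp, Ideal.Quotient.mkₐ_eq_mk]
        have h1 : (Ideal.Quotient.liftₐ (Ideal.span (Set.range v))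
            (MvPolynomial.aeval fun _ => AdjoinRoot.root (Polynomial.X ^ p - Polynomial.C a)) hker)
            (Ideal.Quotient.mk _ (MvPolynomial.X 0)) = AdjoinRoot.root (Polynomial.X ^ p - Polynomial.C a) :=
          MvPolynomial.aeval_X _ _
        erw [h1]
        exact AdjoinRoot.liftAlgHom_root _ _ _ _)
  exact balanced_congr e ⟨1, ⟨Algebra.Presentation.naive (v := v)⟩⟩

theorem balanced_tower : ∀ (n : ℕ) {A B : Type u} [CommRing A] [CommRing B] [Algebra A B],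
    Quiet.IsRootTower p n A B → Balanced A B
  | 0, A, B, _, _, _, ⟨e⟩ =>
    balanced_congr e.symm ⟨0, ⟨(Algebra.Presentation.id.{0, 0, u} A).reindex (Equiv.equivPEmpty.{1, 1} _) (Equiv.equivPEmpty.{1, 1} _)⟩⟩
  | n + 1, A, B, _, _, _, ⟨a, alg, hT, ht⟩ => by
    letI := alg
    exact balanced_trans (balanced_root A a) (balanced_tower n ht)

theorem balanced_of_standardSmooth {R S : Type u} [CommRing R] [CommRing S] [Algebra R S]
    [h : Algebra.IsStandardSmoothOfRelativeDimension 0 R S] : Balanced R S := by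
  obtain ⟨ι, σ, hσ, hι, P, hP⟩ := h.out
  have h1 : Nat.card σ = Nat.card ι := le_antisymm (Nat.card_le_card_of_injective P.map P.map_inj) (by
    simp only [Algebra.Presentation.dimension] at hP
    omega)
  exact ⟨Nat.card ι, ⟨P.toPresentation.reindex (Finite.equivFin ι).symm
    ((finCongr h1.symm).trans (Finite.equivFin σ).symm)⟩⟩

theorem isSyntomic_of_balanced {R S : Type u} [CommRing R] [CommRing S] [Algebra R S] [Algebra.QuasiFinite R S]
    (h : Balanced R S) : Synt.IsSyntomic R S := by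
  obtain ⟨m, ⟨P⟩⟩ := h
  have hspan : RingHom.ker (MvPolynomial.aeval (R := R) P.val).toRingHom = Ideal.span (Set.range P.relation) := by
    rw [P.span_range_relation_eq_ker, Algebra.Generators.ker_eq_ker_aeval_val]
    rfl
  let e : Synt.RelGCIRing R m m P.relation ≃ₐ[R] S :=
    (Ideal.quotientEquivAlgOfEq R hspan.symm).trans
      (Ideal.quotientKerAlgEquivOfSurjective P.aeval_val_surjective)
  refine Synt92.Congr.isSyntomic_congr e (Groth.Agent.S9147.result R m m P.relation fun q hq => ⟨le_rfl, ?_⟩)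
  let E : q.asIdeal.Fiber (Synt.RelGCIRing R m m P.relation) ≃ₐ[q.asIdeal.ResidueField] q.asIdeal.Fiber S :=
    Algebra.TensorProduct.congr (R := R) (S := q.asIdeal.ResidueField) AlgEquiv.refl e
  haveI : Nontrivial (q.asIdeal.Fiber S) := E.symm.toEquiv.nontrivial
  rw [ringKrullDim_eq_of_ringEquiv E.toRingEquiv, Nat.sub_self, Nat.cast_zero]
  haveI : IsArtinianRing (q.asIdeal.Fiber S) := inferInstance
  exact ringKrullDimZero_iff_ringKrullDim_eq_zero.mp inferInstance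

theorem ι_comp_appLE {X Y : Scheme.{u}} (V : Y.Opens) (f : Y ⟶ X) (X₀ : X.Opens) (O : (V : Scheme.{u}).Opens)
    (h₁ : V.ι ''ᵁ O ≤ f ⁻¹ᵁ X₀) (h₂ : O ≤ (V.ι ≫ f) ⁻¹ᵁ X₀) :
    (V.ι ≫ f).appLE X₀ O h₂ = f.appLE X₀ (V.ι ''ᵁ O) h₁ := by
  rw [Scheme.Hom.comp_appLE]
  erw [Scheme.Opens.ι_appLE]
  rfl

theorem isSyntomicMor_of_isQuiet [Fact p.Prime] {X Y : Scheme.{u}} (f : Y ⟶ X)
    (hf : Quiet.IsQuiet p f) : Synt.IsSyntomicMor f := by
  intro y
  obtain ⟨V, Y', r, e, hy, hr, he, hre⟩ := hf y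
  haveI := he
  obtain ⟨U, hU, hgood⟩ := (Pth.isPthRoot_iff p r).mp hr (r ⟨y, hy⟩)
  obtain ⟨X₀, hX₀, U', hU', hzU', h', hsm⟩ :=
    SmoothOfRelativeDimension.exists_isStandardSmoothOfRelativeDimension (n := 0) (f := U.ι ≫ e) ⟨r ⟨y, hy⟩, hU⟩
  let W : Y'.Opens := U.ι ''ᵁ U'
  have hW : IsAffineOpen W := hU'.image_of_isOpenImmersion U.ι
  have hWU : W ≤ U := by rintro _ ⟨z, -, rfl⟩; exact z.2
  obtain ⟨-, hrW, hT⟩ := Pth.good_mono p hgood hW hWU
  have hWe : W ≤ e ⁻¹ᵁ X₀ := by rintro _ ⟨z, hz, rfl⟩; exact h' hz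
  let Wy : Y.Opens := V.ι ''ᵁ (r ⁻¹ᵁ W)
  have hWy : IsAffineOpen Wy := hrW.image_of_isOpenImmersion V.ι
  have hle : Wy ≤ f ⁻¹ᵁ X₀ := by
    rintro _ ⟨z, hz, rfl⟩
    show f (V.ι z) ∈ X₀
    rw [← Scheme.Hom.comp_apply, ← hre, Scheme.Hom.comp_apply]
    exact hWe hz
  refine ⟨⟨Wy, hWy⟩, ⟨X₀, hX₀⟩, hle, ⟨⟨y, hy⟩, ⟨⟨r ⟨y, hy⟩, hU⟩, hzU', rfl⟩, rfl⟩, ?_⟩
  letI a1 : Algebra Γ(X, X₀) Γ(Y', W) := (e.appLE X₀ W hWe).hom.toAlgebra
  letI a2 : Algebra Γ(Y', W) Γ((V : Scheme.{u}), r ⁻¹ᵁ W) := (r.app W).hom.toAlgebra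
  letI a3 : Algebra Γ(X, X₀) Γ((V : Scheme.{u}), r ⁻¹ᵁ W) := ((r.app W).hom.comp (e.appLE X₀ W hWe).hom).toAlgebra
  haveI : IsScalarTower Γ(X, X₀) Γ(Y', W) Γ((V : Scheme.{u}), r ⁻¹ᵁ W) := IsScalarTower.of_algebraMap_eq fun _ => rfl
  obtain ⟨n, hn⟩ := (Pth.towerHom_restrict p r W).mp hT
  haveI : Module.Finite Γ(Y', W) Γ((V : Scheme.{u}), r ⁻¹ᵁ W) :=
    (Tower.free_finite (Fact.out : p.Prime).ne_zero n hn).2.1
  haveI hss : Algebra.IsStandardSmoothOfRelativeDimension 0 Γ(X, X₀) Γ(Y', W) := by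
    have : (e.appLE X₀ W hWe).hom.IsStandardSmoothOfRelativeDimension 0 := by
      have h2 : (U.ι ≫ e).appLE X₀ U' h' = e.appLE X₀ W hWe := by
        rw [Scheme.Hom.comp_appLE]
        erw [Scheme.Opens.ι_appLE]
        rfl
      rw [← h2]; exact hsm
    exact this
  haveI : Algebra.Etale Γ(X, X₀) Γ(Y', W) := inferInstance
  haveI : Algebra.QuasiFinite Γ(X, X₀) Γ(Y', W) := inferInstance
  haveI : Algebra.QuasiFinite Γ(X, X₀) Γ((V : Scheme.{u}), r ⁻¹ᵁ W) := Algebra.QuasiFinite.trans Γ(X, X₀) Γ(Y', W) _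
  have hsyn := isSyntomic_of_balanced (balanced_trans balanced_of_standardSmooth (balanced_tower n hn))
    (R := Γ(X, X₀)) (S := Γ((V : Scheme.{u}), r ⁻¹ᵁ W))
  letI := (f.appLE X₀ Wy hle).hom.toAlgebra
  refine @Synt92.MorStd.isSyntomic_of_arrow _ _ _ _ _ _ _ _ _ a3 (RingEquiv.refl _) (RingEquiv.refl _) (fun a => ?_) hsyn
  have h3 : f.appLE X₀ Wy hle = e.appLE X₀ W hWe ≫ r.app W := by
    rw [Scheme.Hom.app_eq_appLE, Scheme.Hom.appLE_comp_appLE]
    have h4 : (r ≫ e).appLE X₀ (r ⁻¹ᵁ W) (fun z hz => hWe hz) = (V.ι ≫ f).appLE X₀ (r ⁻¹ᵁ W) (fun z hz => hle ⟨z, hz, rfl⟩) := by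
      congr 1
    rw [h4]
    exact (ι_comp_appLE V f X₀ (r ⁻¹ᵁ W) hle _).symm
  show (f.appLE X₀ Wy hle).hom a = _
  rw [h3]
  rfl

end Groth.Agent.Lib.QuietLib.Syn
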