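import Groth.Prelude.Def_W4c2gaugesfzipsQuiet
import Mathlib.RingTheory.IsTensorProduct
import Mathlib.RingTheory.Flat.FaithfullyFlat.Basic
import Mathlib.Algebra.CharP.Lemmas

/-!
# Towers of elementary `p`-th root extractions

Invariance under isomorphisms, composition, base change, finiteness, injectivity, powers.
-/

set_option autoImplicit false

universe u

open Polynomial TensorProduct

namespace Groth.Agent.Lib.QuietLib.Tower

variable {p : ℕ}

theorem monic_root {A : Type u} [CommRing A] (hp : p ≠ 0) (a : A) : (X ^ p - C a : A[X]).Monic :=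
  monic_X_pow_sub_C a hp

/-- transport of an adjoined root along a ring isomorphism -/
noncomputable def rootEquiv {A A' : Type u} [CommRing A] [CommRing A'] (e : A ≃+* A') (a : A) :
    Quiet.RootRing p A a ≃+* Quiet.RootRing p A' (e a) :=
  RingEquiv.ofRingHom (AdjoinRoot.map e.toRingHom _ _ (by simp)) (AdjoinRoot.map e.symm.toRingHom _ _ (by simp))
    (by
      refine AdjoinRoot.ringHom_ext (RingHom.ext fun x => ?_) ?_
      · simp
      · simp)
    (by
      refine AdjoinRoot.ringHom_ext (RingHom.ext fun x => ?_) ?_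
      · simp
      · simp)

theorem rootEquiv_of {A A' : Type u} [CommRing A] [CommRing A'] (e : A ≃+* A') (a x : A) :
    rootEquiv (p := p) e a (AdjoinRoot.of _ x) = AdjoinRoot.of _ (e x) := by
  simp [rootEquiv]

theorem congr : ∀ (n : ℕ) {A B A' B' : Type u} [CommRing A] [CommRing B] [CommRing A'] [CommRing B']
    [Algebra A B] [Algebra A' B'] (eA : A ≃+* A') (eB : B ≃+* B'),
    (∀ a, eB (algebraMap A B a) = algebraMap A' B' (eA a)) →
    Quiet.IsRootTower p n A B → Quiet.IsRootTower p n A' B'
  | 0, A, B, A', B', _, _, _, _, _, _, eA, eB, h, ⟨e⟩ =>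
    ⟨AlgEquiv.ofRingEquiv (f := (eB.symm.trans e.toRingEquiv).trans eA) fun x => by
      have h1 := h (eA.symm x)
      rw [eA.apply_symm_apply] at h1
      simp only [RingEquiv.trans_apply]
      rw [← h1, eB.symm_apply_apply]
      show eA (e (algebraMap A B (eA.symm x))) = x
      rw [e.commutes]
      exact eA.apply_symm_apply x⟩
  | n + 1, A, B, A', B', _, _, _, _, _, _, eA, eB, h, ⟨a, alg, hT, ht⟩ => by
    letI := alg
    letI alg' : Algebra (Quiet.RootRing p A' (eA a)) B' :=
      (eB.toRingHom.comp ((algebraMap (Quiet.RootRing p A a) B).comp (rootEquiv eA a).symm.toRingHom)).toAlgebra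
    refine ⟨eA a, alg', IsScalarTower.of_algebraMap_eq fun x => ?_, congr n (rootEquiv eA a) eB (fun r => ?_) ht⟩
    · show algebraMap A' B' x = eB (algebraMap (Quiet.RootRing p A a) B ((rootEquiv eA a).symm (AdjoinRoot.of _ x)))
      obtain ⟨y, rfl⟩ := eA.surjective x
      rw [← rootEquiv_of eA a y, RingEquiv.symm_apply_apply, ← h]
      exact congrArg eB (IsScalarTower.algebraMap_apply A (Quiet.RootRing p A a) B y)
    · show _ = eB (algebraMap (Quiet.RootRing p A a) B ((rootEquiv eA a).symm (rootEquiv eA a r)))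
      rw [RingEquiv.symm_apply_apply]

theorem congr_right {n : ℕ} {A B B' : Type u} [CommRing A] [CommRing B] [CommRing B'] [Algebra A B] [Algebra A B']
    (e : B ≃ₐ[A] B') (h : Quiet.IsRootTower p n A B) : Quiet.IsRootTower p n A B' :=
  congr n (RingEquiv.refl A) e.toRingEquiv (fun a => e.commutes a) h

theorem trans : ∀ (n m : ℕ) {A B C : Type u} [CommRing A] [CommRing B] [CommRing C] [Algebra A B] [Algebra B C]
    [Algebra A C] [IsScalarTower A B C],
    Quiet.IsRootTower p n A B → Quiet.IsRootTower p m B C → Quiet.IsRootTower p (n + m) A C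
  | 0, m, A, B, C, _, _, _, _, _, _, _, ⟨e⟩, h => by
    rw [Nat.zero_add]
    refine congr m e.toRingEquiv (RingEquiv.refl C) (fun b => ?_) h
    show algebraMap B C b = algebraMap A C (e b)
    rw [IsScalarTower.algebraMap_apply A B C, ← e.symm.commutes (e b)]
    simp
  | n + 1, m, A, B, C, _, _, _, _, _, _, _, ⟨a, alg, hT, ht⟩, h => by
    letI := alg
    rw [Nat.add_right_comm]
    letI algC : Algebra (Quiet.RootRing p A a) C :=
      ((algebraMap B C).comp (algebraMap (Quiet.RootRing p A a) B)).toAlgebra
    haveI : IsScalarTower (Quiet.RootRing p A a) B C := IsScalarTower.of_algebraMap_eq fun _ => rfl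
    refine ⟨a, algC, IsScalarTower.of_algebraMap_eq fun x => ?_, trans n m ht h⟩
    show algebraMap A C x = algebraMap B C (algebraMap (Quiet.RootRing p A a) B (algebraMap A _ x))
    rw [← IsScalarTower.algebraMap_apply A (Quiet.RootRing p A a) B, ← IsScalarTower.algebraMap_apply A B C]

section BaseChange

attribute [local instance] Algebra.TensorProduct.rightAlgebra

/-- the map between adjoined roots induced by a map of base rings -/
noncomputable def rootMap {A : Type u} [CommRing A] (A' : Type u) [CommRing A'] [Algebra A A'] (a : A) :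
    Quiet.RootRing p A a →ₐ[A] Quiet.RootRing p A' (algebraMap A A' a) :=
  AdjoinRoot.mapAlgHom (Algebra.ofId A A') _ _ (by simp)

/-- adjoining a root commutes with base change -/
theorem root_isPushout {A : Type u} [CommRing A] (A' : Type u) [CommRing A'] [Algebra A A'] (a : A)
    [Algebra (Quiet.RootRing p A a) (Quiet.RootRing p A' (algebraMap A A' a))]
    [IsScalarTower A (Quiet.RootRing p A a) (Quiet.RootRing p A' (algebraMap A A' a))]
    (h : ∀ r, algebraMap (Quiet.RootRing p A a) (Quiet.RootRing p A' (algebraMap A A' a)) r = rootMap A' a r) :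
    Algebra.IsPushout A A' (Quiet.RootRing p A a) (Quiet.RootRing p A' (algebraMap A A' a)) := by
  let φ := rootMap (p := p) A' a
  let e : A' ⊗[A] Quiet.RootRing p A a ≃ₐ[A'] Quiet.RootRing p A' (algebraMap A A' a) :=
    AlgEquiv.ofAlgHom (Algebra.TensorProduct.lift (Algebra.ofId A' _) φ fun _ _ => .all _ _)
      (AdjoinRoot.liftAlgHom _ (Algebra.ofId A' _) (1 ⊗ₜ AdjoinRoot.root _) (by
        have h := AdjoinRoot.eval₂_root (X ^ p - C a : A[X])
        simp only [eval₂_sub, eval₂_X_pow, eval₂_C] at h ⊢
        rw [Algebra.TensorProduct.tmul_pow, one_pow, sub_eq_zero.mp h]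
        show (1 : A') ⊗ₜ[A] algebraMap A (Quiet.RootRing p A a) a - algebraMap A A' a ⊗ₜ 1 = 0
        rw [Algebra.algebraMap_eq_smul_one, TensorProduct.tmul_smul, TensorProduct.smul_tmul',
          ← Algebra.algebraMap_eq_smul_one, sub_self]))
      (by
        refine AdjoinRoot.algHom_ext ?_
        simp [φ, rootMap])
      (by
        refine Algebra.TensorProduct.ext (AlgHom.ext fun x => by simp) ?_
        refine AdjoinRoot.algHom_ext ?_
        simp [φ, rootMap])
  exact Algebra.IsPushout.of_equiv (h := inferInstance) e (by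
    refine RingHom.ext fun r => ?_
    show e (1 ⊗ₜ r) = algebraMap _ _ r
    rw [h r]
    simp [e, φ])

theorem baseChange : ∀ (n : ℕ) {A B : Type u} [CommRing A] [CommRing B] [Algebra A B]
    (A' : Type u) [CommRing A'] [Algebra A A'],
    Quiet.IsRootTower p n A B → Quiet.IsRootTower p n A' (A' ⊗[A] B)
  | 0, A, B, _, _, _, A', _, _, ⟨e⟩ =>
    ⟨(Algebra.TensorProduct.congr AlgEquiv.refl e).trans (Algebra.TensorProduct.rid A A' A')⟩
  | n + 1, A, B, _, _, _, A', _, _, ⟨a, alg, hT, ht⟩ => by
    letI := alg
    let a' := algebraMap A A' a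
    let φ := rootMap (p := p) A' a
    letI : Algebra (Quiet.RootRing p A a) (Quiet.RootRing p A' a') := φ.toRingHom.toAlgebra
    haveI : IsScalarTower A (Quiet.RootRing p A a) (Quiet.RootRing p A' a') :=
      IsScalarTower.of_algebraMap_eq fun x => (φ.commutes x).symm
    haveI : Algebra.IsPushout A A' (Quiet.RootRing p A a) (Quiet.RootRing p A' a') :=
      root_isPushout A' a fun _ => rfl
    have ih := baseChange n (Quiet.RootRing p A' a') ht
    let e₂ : Quiet.RootRing p A' a' ⊗[Quiet.RootRing p A a] B ≃ₐ[A'] A' ⊗[A] B :=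
      Algebra.IsPushout.cancelBaseChangeAlg A A' (Quiet.RootRing p A a) (Quiet.RootRing p A' a') B
    letI alg' : Algebra (Quiet.RootRing p A' a') (A' ⊗[A] B) :=
      (e₂.toRingEquiv.toRingHom.comp
        (algebraMap (Quiet.RootRing p A' a') (Quiet.RootRing p A' a' ⊗[Quiet.RootRing p A a] B))).toAlgebra
    refine ⟨a', alg', IsScalarTower.of_algebraMap_eq fun x => ?_, congr n (RingEquiv.refl _) e₂.toRingEquiv (fun _ => rfl) ih⟩
    show algebraMap A' (A' ⊗[A] B) x = e₂ (algebraMap A' (Quiet.RootRing p A' a' ⊗[Quiet.RootRing p A a] B) x)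
    rw [e₂.commutes]

end BaseChange

theorem free_finite (hp : p ≠ 0) : ∀ (n : ℕ) {A B : Type u} [CommRing A] [CommRing B] [Algebra A B],
    Quiet.IsRootTower p n A B → Module.Free A B ∧ Module.Finite A B ∧ (Nontrivial A → Nontrivial B)
  | 0, A, B, _, _, _, ⟨e⟩ =>
    ⟨Module.Free.of_equiv e.symm.toLinearEquiv, Module.Finite.equiv e.symm.toLinearEquiv,
      fun _ => e.toEquiv.nontrivial⟩
  | n + 1, A, B, _, _, _, ⟨a, alg, hT, ht⟩ => by
    letI := alg
    obtain ⟨h1, h2, h3⟩ := free_finite hp n ht
    haveI := (monic_root hp a).free_adjoinRoot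
    haveI := (monic_root hp a).finite_adjoinRoot
    refine ⟨Module.Free.trans (S := Quiet.RootRing p A a), Module.Finite.trans (Quiet.RootRing p A a) B, fun hA => h3 ?_⟩
    haveI : Nonempty (Fin (AdjoinRoot.powerBasis' (monic_root hp a)).dim) := ⟨⟨0, by
      simp only [AdjoinRoot.powerBasis'_dim, natDegree_X_pow_sub_C]; omega⟩⟩
    exact (AdjoinRoot.powerBasis' (monic_root hp a)).basis.repr.toEquiv.nontrivial

theorem faithfullyFlat (hp : p ≠ 0) {n : ℕ} {A B : Type u} [CommRing A] [CommRing B] [Algebra A B]
    (h : Quiet.IsRootTower p n A B) : Module.FaithfullyFlat A B := by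
  obtain ⟨h1, h2, h3⟩ := free_finite hp n h
  rcases subsingleton_or_nontrivial A with hA | hA
  · haveI : Subsingleton B := Module.subsingleton A B
    exact Module.FaithfullyFlat.of_linearEquiv A A (LinearEquiv.ofSubsingleton B A)
  · haveI := h3 hA
    infer_instance

theorem injective (hp : p ≠ 0) {n : ℕ} {A B : Type u} [CommRing A] [CommRing B] [Algebra A B]
    (h : Quiet.IsRootTower p n A B) : Function.Injective (algebraMap A B) := by
  haveI := faithfullyFlat hp h
  exact FaithfulSMul.algebraMap_injective A B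

theorem exists_pow_eq [Fact p.Prime] : ∀ (n : ℕ) {A B : Type u} [CommRing A] [CommRing B] [Algebra A B],
    (p : A) = 0 → Quiet.IsRootTower p n A B → ∀ b : B, ∃ a : A, algebraMap A B a = b ^ p ^ n
  | 0, A, B, _, _, _, _, ⟨e⟩, b => ⟨e b, by rw [pow_zero, pow_one, ← e.symm.commutes (e b)]; simp⟩
  | n + 1, A, B, _, _, _, hA, ⟨a, alg, hT, ht⟩, b => by
    letI := alg
    have hR : (p : Quiet.RootRing p A a) = 0 := by
      rw [← map_natCast (algebraMap A (Quiet.RootRing p A a)), hA, map_zero]
    obtain ⟨r, hr⟩ := exists_pow_eq n hR ht b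
    have key : ∀ r : Quiet.RootRing p A a, ∃ x : A, algebraMap A _ x = r ^ p := by
      intro r
      induction r using AdjoinRoot.induction_on with
      | ih f =>
        induction f using Polynomial.induction_on' with
        | add f g hf hg =>
          obtain ⟨x, hx⟩ := hf
          obtain ⟨y, hy⟩ := hg
          refine ⟨x + y, ?_⟩
          rw [map_add, map_add, hx, hy]
          rcases subsingleton_or_nontrivial (Quiet.RootRing p A a) with hS | hS
          · exact Subsingleton.elim _ _
          · haveI : CharP (Quiet.RootRing p A a) p := (CharP.charP_iff_prime_eq_zero Fact.out).2 hR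
            exact (add_pow_char ..).symm
        | monomial k c =>
          refine ⟨c ^ p * a ^ k, ?_⟩
          rw [← C_mul_X_pow_eq_monomial, map_mul, map_pow, map_pow, map_mul, map_pow, AdjoinRoot.mk_C, AdjoinRoot.mk_X,
            mul_pow, ← pow_mul, mul_comm k p, pow_mul]
          congr 2
          have h := AdjoinRoot.eval₂_root (X ^ p - C a : A[X])
          simp only [eval₂_sub, eval₂_X_pow, eval₂_C] at h
          exact (sub_eq_zero.mp h).symm
    obtain ⟨x, hx⟩ := key r
    exact ⟨x, by rw [IsScalarTower.algebraMap_apply A (Quiet.RootRing p A a) B, hx, map_pow, hr, ← pow_mul, ← pow_succ]⟩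

end Groth.Agent.Lib.QuietLib.Tower
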